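import Groth.Agent.H34.AbelMono
import Groth.Agent.H34.CanonFam
import Groth.Agent.H97.CurveDicho
import Groth.Agent.H97.GenLocusAffine
import Groth.Agent.H97.CurvePositivity
import Groth.Agent.H4.CartierSection
import Groth.Agent.S12128
import Groth.Prelude.Def_AnFib

/-!
# Elementary fibrations are affine and surjective
-/

set_option autoImplicit false
set_option linter.style.haveILetI false

universe u

open CategoryTheory CategoryTheory.Limits AlgebraicGeometry TopologicalSpace Opposite

noncomputable section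

namespace Groth.Agent.H54.ElemFib

open Groth.Agent Groth.Agent.Lib

variable {C S : Scheme.{u}} (f : C ⟶ S)
  (hgeo : ∀ (Ω : Type u) [Field Ω] [IsAlgClosed Ω] (σ : Spec (CommRingCat.of Ω) ⟶ S),
      IrreducibleSpace ↥(pullback f σ) ∧ topologicalKrullDim ↥(pullback f σ) = 1)

include hgeo

/-- Irreducible geometric fibres make a morphism geometrically connected. -/
theorem geometricallyConnected : GeometricallyConnected f := by
  refine ⟨geometrically_iff_of_isClosedUnderIsomorphisms.mpr fun K _ y => ?_⟩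
  let Ω := AlgebraicClosure K
  let b : Spec (CommRingCat.of Ω) ⟶ Spec (CommRingCat.of K) :=
    Spec.map (CommRingCat.ofHom (algebraMap K Ω))
  haveI : Surjective b := ⟨fun z => ⟨IsLocalRing.closedPoint Ω,
    Subsingleton.elim (α := PrimeSpectrum K) _ _⟩⟩
  haveI := (hgeo Ω (b ≫ y)).1
  let g : pullback f (b ≫ y) ⟶ pullback f y :=
    pullback.map f (b ≫ y) f y (𝟙 C) b (𝟙 S) (by simp) (by simp)
  have hsq : IsPullback g (pullback.snd f (b ≫ y)) (pullback.snd f y) b := by
    refine IsPullback.of_right ?_ (pullback.lift_snd _ _ _) (IsPullback.of_hasPullback f y)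
    rw [show g ≫ pullback.fst f y = pullback.fst f (b ≫ y) from
      (pullback.lift_fst _ _ _).trans (Category.comp_id _)]
    exact IsPullback.of_hasPullback f (b ≫ y)
  haveI : Surjective g := MorphismProperty.of_isPullback hsq.flip ‹_›
  exact g.surjective.connectedSpace g.continuous

/-- The fibres have dimension one. -/
theorem dim_fiber [LocallyOfFiniteType f] (s : S) : topologicalKrullDim ↥(f.fiber s) = 1 := by
  let Ω := AlgebraicClosure (S.residueField s)
  let b : Spec (CommRingCat.of Ω) ⟶ Spec (S.residueField s) :=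
    Spec.map (CommRingCat.ofHom (algebraMap (S.residueField s) Ω))
  let g : pullback f (b ≫ S.fromSpecResidueField s) ⟶ f.fiber s :=
    pullback.map f (b ≫ S.fromSpecResidueField s) f (S.fromSpecResidueField s) (𝟙 C) b (𝟙 S)
      (by simp) (by simp)
  have hsq : IsPullback g (pullback.snd f (b ≫ S.fromSpecResidueField s))
      (f.fiberToSpecResidueField s) b := by
    refine IsPullback.of_right ?_ (pullback.lift_snd _ _ _)
      (IsPullback.of_hasPullback f (S.fromSpecResidueField s))
    rw [show g ≫ pullback.fst f (S.fromSpecResidueField s) =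
        pullback.fst f (b ≫ S.fromSpecResidueField s) from
      (pullback.lift_fst _ _ _).trans (Category.comp_id _)]
    exact IsPullback.of_hasPullback f _
  have hlft : LocallyOfFiniteType (f.fiberToSpecResidueField s) :=
    MorphismProperty.pullback_snd (P := @LocallyOfFiniteType) f (S.fromSpecResidueField s) ‹_›
  rw [← @H56.DimBaseChange.topologicalKrullDim_baseChange _ _ _ _ _ _ b (f.fiberToSpecResidueField s)
    (pullback.snd f (b ≫ S.fromSpecResidueField s)) g hsq hlft]
  exact (hgeo Ω _).2

omit hgeo in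
/-- The complement of a divisor whose section is fibrewise a nonzero section with a zero is affine. -/
theorem isAffineHom_compl [IsProper f] [Smooth f] [GeometricallyConnected f]
    (hdim : ∀ s : S, topologicalKrullDim ↥(f.fiber s) = 1) {L : C.Modules}
    (hL : PicF.IsInvertible L) (t : Coh.structureModule C ⟶ L)
    (hin : ∀ s : S, ∃ x, f x = s ∧ x ∈ CohB1.genLocus L t)
    (hout : ∀ s : S, ∃ x, f x = s ∧ x ∉ CohB1.genLocus L t) :
    IsAffineHom ((CohB1.genLocus L t).ι ≫ f) := by
  haveI : LocallyOfFinitePresentation f := inferInstance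
  have hamp : RelAmple.IsRelAmple f L := (Groth.Agent.S12128.result f L hL).2 fun s => by
    letI : (f.fiber s).Over (Spec (CommRingCat.of (S.residueField s))) :=
      ⟨f.fiberToSpecResidueField s⟩
    haveI := H34.CanonFam.isIntegral f hdim s
    haveI : IsProper (f.fiber s ↘ Spec (CommRingCat.of (S.residueField s))) :=
      show IsProper (f.fiberToSpecResidueField s) from MorphismProperty.pullback_snd _ _ inferInstance
    let e := (PicLoc.pullbackStructureIso (f.fiberι s)).symm
    let t' : Coh.structureModule (f.fiber s) ⟶ (Scheme.Modules.pullback (f.fiberι s)).obj L :=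
      e.hom ≫ (Scheme.Modules.pullback (f.fiberι s)).map t
    have hgl : CohB1.genLocus _ t' = f.fiberι s ⁻¹ᵁ CohB1.genLocus L t :=
      Ample.GenLocus.genLocus_pullback (f.fiberι s) hL t e
    have hLs := PicLoc.isInvertible_pullback (f.fiberι s) hL
    have hr : ∀ x, f x = s → ∃ z, f.fiberι s z = x := fun x hx => by
      have : x ∈ Set.range (f.fiberι s) := by rw [f.range_fiberι]; exact hx
      exact this
    obtain ⟨x, hxs, hx⟩ := hin s
    obtain ⟨z, rfl⟩ := hr x hxs
    obtain ⟨x', hxs', hx'⟩ := hout s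
    obtain ⟨z', rfl⟩ := hr x' hxs'
    have hne : t' ≠ 0 := H97.CurvePositivity.ne_zero_of_mem_genLocus hLs
      (show z ∈ CohB1.genLocus _ t' by rw [hgl]; exact hx)
    exact H97.CurvePositivity.isAmple_of_deg_pos (S.residueField s) (hdim s) hLs
      (H97.CurveDicho.deg_pos_of_section (S.residueField s) (hdim s).le hLs hne
        (z := z') (by rw [hgl]; exact hx'))
  refine isAffineHom_of_forall_exists_isAffineOpen _ fun s => ?_
  obtain ⟨V, hV, hsV, -⟩ := exists_isAffineOpen_mem_and_subset (X := S) (x := s) (U := ⊤) trivial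
  refine ⟨V, hsV, hV, ?_⟩
  haveI : IsAffine (V : Scheme.{u}) := hV
  let O := f ⁻¹ᵁ V
  let q : O.toScheme ⟶ Spec (CommRingCat.of Γ((V : Scheme.{u}), ⊤)) :=
    (f ∣_ V) ≫ (V : Scheme.{u}).isoSpec.hom
  haveI : IsProper (f ∣_ V) :=
    MorphismProperty.of_isPullback (isPullback_morphismRestrict f V).flip ‹IsProper f›
  haveI : UniversallyClosed q := inferInstance
  let eO := (PicLoc.pullbackStructureIso O.ι).symm
  have hA : CohB1.IsAmple ((Scheme.Modules.pullback O.ι).obj L) :=
    Ample.Pow.isAmple_of_iso ((Scheme.Modules.restrictFunctorIsoPullback O.ι).app L) (hamp.2 ⟨V, hV⟩)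
  have h1 := H97.GenLocusAffine.isAffineOpen_genLocus q hA (eO.hom ≫ (Scheme.Modules.pullback O.ι).map t)
  rw [Ample.GenLocus.genLocus_pullback O.ι hL t eO] at h1
  have h2 := h1.image_of_isOpenImmersion O.ι
  rw [Scheme.Hom.image_preimage_eq_opensRange_inf, Scheme.Opens.opensRange_ι] at h2
  refine ((CohB1.genLocus L t).ι.isAffineOpen_iff_of_isOpenImmersion).1 ?_
  rw [Scheme.Hom.comp_preimage, Scheme.Hom.image_preimage_eq_opensRange_inf, Scheme.Opens.opensRange_ι,
    inf_comm]
  exact h2

omit hgeo in
/-- Elementary fibrations are affine and surjective. -/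
theorem isAffineHom_and_surjective {X : Scheme.{u}} (g : X ⟶ S)
    (hf : An.IsElementaryFibration g) : IsAffineHom g ∧ Surjective g := by
  obtain ⟨Xb, Y, j, fb, i, hjf, hj, hi, hrange, hdense, hsm, ⟨n, c, hc, hcf⟩, hgeo, hfin, het, hsurj⟩ := hf
  haveI := hj
  haveI := hi
  haveI := hsm
  haveI := hfin
  haveI := het
  haveI := hc
  haveI : IsProper fb := by
    haveI := ProjSpace.BaseChange.isProper_toBase n S
    rw [← hcf]; infer_instance
  haveI := geometricallyConnected fb hgeo
  have hdim := dim_fiber fb hgeo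
  haveI := H34.AbelMono.smooth_relDim_one fb hdim
  haveI : IsIso i.toImage := inferInstance
  have hlf : Mor2.IsFinLocFree (i.ker.subschemeι ≫ fb) := by
    have h : i.ker.subschemeι ≫ fb = CategoryTheory.inv i.toImage ≫ i ≫ fb := by
      rw [← cancel_epi i.toImage, IsIso.hom_inv_id_assoc, ← Category.assoc]
      exact congrArg (· ≫ fb) i.toImage_imageι
    rw [h]
    exact ⟨inferInstance, inferInstance, inferInstance⟩
  obtain ⟨L, t, hL, ht⟩ := H4.CartierSection.exists_section i.ker
    (RelDiv.Cartier.isEffCartier_of_isFinLocFree fb _ hlf)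
  have hsupp : (i.ker.support : Set Xb) = Set.range i := by
    rw [Scheme.Hom.support_ker]
    exact i.isClosedEmbedding.isClosed_range.closure_eq
  have hmem : ∀ x, x ∈ CohB1.genLocus L t ↔ x ∈ Set.range j := fun x => by
    rw [ht x, hrange]
    exact not_congr (Set.ext_iff.1 hsupp x)
  have hgs : Function.Surjective fb := fun s => by
    obtain ⟨y, hy⟩ := hsurj s
    exact ⟨i y, hy⟩
  have hin : ∀ s : S, ∃ x, fb x = s ∧ x ∈ CohB1.genLocus L t := fun s => by
    obtain ⟨x, hx⟩ := hgs s
    obtain ⟨z, hz1, hz2⟩ := closure_nonempty_iff.1 ⟨x, hdense s hx⟩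
    exact ⟨z, hz2, (hmem z).2 hz1⟩
  have hout : ∀ s : S, ∃ x, fb x = s ∧ x ∉ CohB1.genLocus L t := fun s => by
    obtain ⟨y, hy⟩ := hsurj s
    exact ⟨i y, hy, fun h => (show i y ∈ (Set.range i)ᶜ from hrange ▸ (hmem _).1 h) ⟨y, rfl⟩⟩
  have hr : Set.range j = Set.range (CohB1.genLocus L t).ι := by
    rw [Scheme.Opens.range_ι]
    exact Set.ext fun x => (hmem x).symm
  let e := IsOpenImmersion.isoOfRangeEq j (CohB1.genLocus L t).ι hr
  have he : g = e.hom ≫ (CohB1.genLocus L t).ι ≫ fb := by
    rw [IsOpenImmersion.isoOfRangeEq_hom_fac_assoc, hjf]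
  haveI := isAffineHom_compl fb hdim hL t hin hout
  refine ⟨by rw [he]; infer_instance, ⟨fun s => ?_⟩⟩
  obtain ⟨x, hx, hxL⟩ := hin s
  obtain ⟨y, rfl⟩ := (hmem x).1 hxL
  exact ⟨y, by rw [← hjf, Scheme.Hom.comp_apply]; exact hx⟩

end Groth.Agent.H54.ElemFib
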